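import Groth.Agent.Lib.MilnorSqH7.Glue
import Mathlib.RingTheory.FinitePresentation
import Mathlib.RingTheory.Kaehler.TensorProduct
import Mathlib.RingTheory.Smooth.Fiber
import Mathlib.RingTheory.Etale.Basic
import Mathlib.RingTheory.Smooth.Flat

/-!
Algebras over a Milnor square.
-/

universe u

open TensorProduct

namespace Groth.Agent.MilnorH7

attribute [local instance] Algebra.TensorProduct.rightAlgebra

variable {R B A' A : Type u} [CommRing R] [CommRing B] [CommRing A'] [CommRing A]
  [Algebra R B] [Algebra R A'] [Algebra B A] [Algebra A' A] [Algebra R A]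
  [IsScalarTower R B A] [IsScalarTower R A' A] {D : Type u} [CommRing D] [Algebra R D]

/-- An algebra is of finite type if its two base changes are. -/
theorem finiteType_of_pair (h : EtMil.IsFibreSquare R B A' A)
    [Algebra.FiniteType B (B ⊗[R] D)] [Algebra.FiniteType A' (A' ⊗[R] D)] : Algebra.FiniteType R D := by
  classical
  have key : ∀ (T : Type u) [CommRing T] [Algebra R T] [Algebra.FiniteType T (T ⊗[R] D)],
      ∃ s : Finset D, ∀ D₀ : Subalgebra R D, (s : Set D) ⊆ D₀ →
        ∀ x, x ∈ (Algebra.TensorProduct.map (AlgHom.id T T) D₀.val).range := by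
    intro T _ _ hT
    obtain ⟨t, ht⟩ := hT.out
    choose F hF using fun x : T ⊗[R] D => TensorProduct.exists_finset x
    refine ⟨t.biUnion fun x => (F x).image Prod.snd, fun D₀ hD₀ x => ?_⟩
    have : Algebra.adjoin T (t : Set (T ⊗[R] D)) ≤
        (Algebra.TensorProduct.map (AlgHom.id T T) D₀.val).range := by
      refine Algebra.adjoin_le fun y hy => ?_
      rw [hF y]
      refine sum_mem fun q hq => ⟨q.1 ⊗ₜ[R] ⟨q.2, hD₀ ?_⟩, rfl⟩
      simp only [Finset.coe_biUnion, Set.mem_iUnion, Finset.coe_image]
      exact ⟨y, hy, q, hq, rfl⟩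
    exact this (ht ▸ Algebra.mem_top)
  obtain ⟨s, hs⟩ := key B
  obtain ⟨t, ht⟩ := key A'
  let D₀ : Subalgebra R D := Algebra.adjoin R ((s : Set D) ∪ t)
  let L := Subalgebra.toSubmodule D₀
  have hsub : ∀ (T : Type u) [CommRing T] [Algebra R T],
      (∀ x, x ∈ (Algebra.TensorProduct.map (AlgHom.id T T) D₀.val).range) → Subsingleton (T ⊗[R] (D ⧸ L)) := by
    intro T _ _ hT
    refine subsingleton_of_forall_eq 0 fun x => ?_
    obtain ⟨y, rfl⟩ := LinearMap.lTensor_surjective T L.mkQ_surjective x
    obtain ⟨z, rfl⟩ := hT y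
    induction z using TensorProduct.induction_on with
    | zero => simp
    | tmul a b => simp [(Submodule.Quotient.mk_eq_zero L).2 (show (b : D) ∈ L from b.2)]
    | add a b ha hb => rw [map_add, map_add, ha, hb, add_zero]
  haveI := hsub B (hs D₀ (Set.subset_union_left.trans Algebra.subset_adjoin))
  haveI := hsub A' (ht D₀ (Set.subset_union_right.trans Algebra.subset_adjoin))
  haveI := subsingleton_of_pair (D ⧸ L) h
  refine ⟨⟨s ∪ t, ?_⟩⟩
  rw [Finset.coe_union]
  exact eq_top_iff.2 fun x _ => (Submodule.Quotient.mk_eq_zero L).1 (Subsingleton.elim _ _)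

/-- An algebra with flat finitely presented base changes is flat and finitely presented. -/
theorem flat_finitePresentation_of_pair (h : EtMil.IsFibreSquare R B A' A)
    [Module.Flat B (B ⊗[R] D)] [Algebra.FinitePresentation B (B ⊗[R] D)]
    [Module.Flat A' (A' ⊗[R] D)] [Algebra.FinitePresentation A' (A' ⊗[R] D)] :
    Module.Flat R D ∧ Algebra.FinitePresentation R D := by
  classical
  refine ⟨flat_of_pair h D, ?_⟩
  haveI := finiteType_of_pair (D := D) h
  obtain ⟨k, π, hπ⟩ := Algebra.FiniteType.iff_quotient_mvPolynomial''.1 (inferInstance : Algebra.FiniteType R D)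
  let I : Ideal (MvPolynomial (Fin k) R) := RingHom.ker π
  have key : ∀ (T : Type u) [CommRing T] [Algebra R T] [Algebra.FinitePresentation T (T ⊗[R] D)],
      ∃ s : Finset (MvPolynomial (Fin k) R), (s : Set (MvPolynomial (Fin k) R)) ⊆ (I : Set (MvPolynomial (Fin k) R)) ∧
        RingHom.ker (Algebra.TensorProduct.map (AlgHom.id R T) π) =
          (Ideal.span (s : Set (MvPolynomial (Fin k) R))).map
            (Algebra.TensorProduct.includeRight : MvPolynomial (Fin k) R →ₐ[R] T ⊗[R] MvPolynomial (Fin k) R) := by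
    intro T _ _ hT
    haveI : Algebra.FinitePresentation T (T ⊗[R] MvPolynomial (Fin k) R) := inferInstance
    have hfg : (RingHom.ker (Algebra.TensorProduct.map (AlgHom.id T T) π).toRingHom).FG :=
      Algebra.FinitePresentation.ker_fG_of_surjective _ (LinearMap.lTensor_surjective T hπ)
    have hker : RingHom.ker (Algebra.TensorProduct.map (AlgHom.id R T) π) = _ :=
      Algebra.TensorProduct.lTensor_ker (A := T) π hπ
    have heq : RingHom.ker (Algebra.TensorProduct.map (AlgHom.id T T) π).toRingHom =
        RingHom.ker (Algebra.TensorProduct.map (AlgHom.id R T) π) := rfl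
    rw [heq, hker, Ideal.map] at hfg
    obtain ⟨u, hu, hspan⟩ := (Submodule.fg_span_iff_fg_span_finset_subset _).1 hfg
    choose pre hpre hpre' using fun x : u => hu x.2
    refine ⟨Finset.univ.image pre, ?_, ?_⟩
    · intro x hx
      simp only [Finset.coe_image, Finset.coe_univ, Set.image_univ] at hx
      obtain ⟨i, rfl⟩ := hx
      exact hpre i
    · rw [hker, Ideal.map]
      refine le_antisymm ?_ (Ideal.map_mono (Ideal.span_le.2 ?_))
      · refine hspan.le.trans (Submodule.span_le.2 fun x hx => ?_)
        rw [← show _ = x from hpre' ⟨x, hx⟩]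
        exact Ideal.mem_map_of_mem _ (Ideal.subset_span (by simp))
      · intro x hx
        simp only [Finset.coe_image, Finset.coe_univ, Set.image_univ] at hx
        obtain ⟨i, rfl⟩ := hx
        exact hpre i
  obtain ⟨s, hsI, hs⟩ := key B
  obtain ⟨t, htI, ht⟩ := key A'
  let I₀ : Ideal (MvPolynomial (Fin k) R) := Ideal.span ((s ∪ t : Finset _) : Set _)
  have hI₀ : I₀ ≤ I := Ideal.span_le.2 (by rw [Finset.coe_union]; exact Set.union_subset hsI htI)
  let q : MvPolynomial (Fin k) R ⧸ I₀ →ₐ[R] D := Ideal.Quotient.liftₐ I₀ π hI₀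
  have hq : Function.Surjective q := fun b => by
    obtain ⟨p, rfl⟩ := hπ b
    exact ⟨Ideal.Quotient.mk I₀ p, rfl⟩
  have hbij : ∀ (T : Type u) [CommRing T] [Algebra R T] (u : Finset (MvPolynomial (Fin k) R)), u ⊆ s ∪ t →
      RingHom.ker (Algebra.TensorProduct.map (AlgHom.id R T) π) =
          (Ideal.span (u : Set (MvPolynomial (Fin k) R))).map
            (Algebra.TensorProduct.includeRight : MvPolynomial (Fin k) R →ₐ[R] T ⊗[R] MvPolynomial (Fin k) R) →
      Function.Bijective (q.toLinearMap.baseChange T) := by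
    intro T _ _ u hu hu'
    refine ⟨(injective_iff_map_eq_zero _).2 fun x hx => ?_, LinearMap.lTensor_surjective T hq⟩
    let m := Algebra.TensorProduct.map (AlgHom.id R T) (Ideal.Quotient.mkₐ R I₀)
    obtain ⟨z, hz⟩ := LinearMap.lTensor_surjective T
      (g := (Ideal.Quotient.mkₐ R I₀).toLinearMap) Ideal.Quotient.mk_surjective x
    subst hz
    have hz : z ∈ RingHom.ker (Algebra.TensorProduct.map (AlgHom.id R T) π) := by
      rw [RingHom.mem_ker]
      have : (Algebra.TensorProduct.map (AlgHom.id R T) π).toLinearMap z =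
          q.toLinearMap.lTensor T ((Ideal.Quotient.mkₐ R I₀).toLinearMap.lTensor T z) := by
        rw [← LinearMap.comp_apply, ← LinearMap.lTensor_comp]
        rfl
      exact this.trans hx
    rw [hu'] at hz
    have hle : (Ideal.span (u : Set (MvPolynomial (Fin k) R))).map
        (Algebra.TensorProduct.includeRight : MvPolynomial (Fin k) R →ₐ[R] T ⊗[R] MvPolynomial (Fin k) R) ≤
        RingHom.ker m := by
      rw [Ideal.map_le_iff_le_comap]
      intro y hy
      have hy' : y ∈ I₀ := Ideal.span_mono (by exact_mod_cast hu) hy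
      simp [m, Ideal.Quotient.eq_zero_iff_mem.2 hy']
    exact hle hz
  have hS := hbij B s Finset.subset_union_left hs
  have hL := hbij A' t Finset.subset_union_right ht
  haveI : Module.Flat B (B ⊗[R] (MvPolynomial (Fin k) R ⧸ I₀)) :=
    Module.Flat.of_linearEquiv (LinearEquiv.ofBijective _ hS)
  haveI : Module.Flat A' (A' ⊗[R] (MvPolynomial (Fin k) R ⧸ I₀)) :=
    Module.Flat.of_linearEquiv (LinearEquiv.ofBijective _ hL)
  haveI := flat_of_pair h (MvPolynomial (Fin k) R ⧸ I₀)
  have hinj : Function.Injective q := (injective_iff_map_eq_zero _).2 fun x hx =>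
    eq_zero_of_pair h _ (hS.1 (by simp [hx])) (hL.1 (by simp [hx]))
  haveI : Algebra.FinitePresentation R (MvPolynomial (Fin k) R ⧸ I₀) :=
    Algebra.FinitePresentation.quotient ⟨s ∪ t, rfl⟩
  exact Algebra.FinitePresentation.equiv (AlgEquiv.ofBijective q ⟨hinj, hq⟩)

/-- An algebra with etale base changes is etale. -/
theorem etale_of_pair (h : EtMil.IsFibreSquare R B A' A)
    [Algebra.Etale B (B ⊗[R] D)] [Algebra.Etale A' (A' ⊗[R] D)] : Algebra.Etale R D := by
  obtain ⟨_, _⟩ := flat_finitePresentation_of_pair (D := D) h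
  have hsub : ∀ (T : Type u) [CommRing T] [Algebra R T] [Algebra.FormallyUnramified T (T ⊗[R] D)],
      Subsingleton (T ⊗[R] Ω[D⁄R]) := fun T _ _ _ =>
    (KaehlerDifferential.tensorKaehlerEquivBase R T D (T ⊗[R] D)).toEquiv.subsingleton
  haveI := hsub B
  haveI := hsub A'
  haveI : Algebra.FormallyUnramified R D := ⟨subsingleton_of_pair Ω[D⁄R] h⟩
  exact Algebra.Etale.of_formallyUnramified_of_flat

/-- A prime not containing `ker (R → B)` comes from `A'`. -/
theorem exists_hom_snd (h : EtMil.IsFibreSquare R B A' A) (K : Type u) [Field K] [Algebra R K] {j : R}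
    (hj : algebraMap R B j = 0) (hjK : algebraMap R K j ≠ 0) :
    ∃ ψ : A' →+* K, ψ.comp (algebraMap R A') = algebraMap R K := by
  have hex : ∀ a' : A', ∃ b : R, algebraMap R B b = 0 ∧ algebraMap R A' b = algebraMap R A' j * a' :=
    fun a' => (weak_of_isFibreSquare h).lift _ (by rw [map_mul, algebraMap_snd_eq_zero hj, zero_mul])
  choose g hg0 hg using hex
  have hone : g 1 = j := pair_ext h (by rw [hg0, hj]) (by rw [hg, mul_one])
  refine ⟨{ toFun := fun a => algebraMap R K (g a) * (algebraMap R K j)⁻¹
            map_one' := by rw [hone, mul_inv_cancel₀ hjK]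
            map_zero' := ?_
            map_add' := fun a b => ?_
            map_mul' := fun a b => ?_ }, ?_⟩
  · have h2 : g (a * b) * j = g a * g b :=
      pair_ext h (by simp [map_mul, hg0, hj]) (by simp [map_mul, hg]; ring)
    show algebraMap R K (g (a * b)) * (algebraMap R K j)⁻¹ = _
    have h3 := congrArg (algebraMap R K) h2
    rw [map_mul, map_mul] at h3
    field_simp
    linear_combination h3
  · rw [show g 0 = 0 from pair_ext h (by simp [hg0]) (by simp [hg]), map_zero, zero_mul]
  · rw [show g (a + b) = g a + g b from pair_ext h (by simp [hg0]) (by simp [hg, mul_add]), map_add, add_mul]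
  · refine RingHom.ext fun r => ?_
    show algebraMap R K (g (algebraMap R A' r)) * _ = _
    rw [show g (algebraMap R A' r) = j * r from pair_ext h (by simp [map_mul, hg0, hj]) (by simp [hg]), map_mul,
      mul_comm (algebraMap R K j), mul_assoc, mul_inv_cancel₀ hjK, mul_one]

/-- An algebra with smooth base changes is smooth. -/
theorem smooth_of_pair (h : EtMil.IsFibreSquare R B A' A)
    [Algebra.Smooth B (B ⊗[R] D)] [Algebra.Smooth A' (A' ⊗[R] D)] : Algebra.Smooth R D := by
  obtain ⟨_, _⟩ := flat_finitePresentation_of_pair (D := D) h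
  refine Algebra.Smooth.of_formallySmooth_fiber fun p hp => ?_
  let K := p.ResidueField
  have key : ∀ (T : Type u) [CommRing T] [Algebra R T] [Algebra.FormallySmooth T (T ⊗[R] D)] (ψ : T →+* K),
      ψ.comp (algebraMap R T) = algebraMap R K → Algebra.FormallySmooth K (K ⊗[R] D) := by
    intro T _ _ _ ψ hψ
    letI := ψ.toAlgebra
    haveI : IsScalarTower R T K := .of_algebraMap_eq' hψ.symm
    haveI : Algebra.FormallySmooth K (K ⊗[T] (T ⊗[R] D)) := inferInstance
    exact Algebra.FormallySmooth.of_equiv (Algebra.TensorProduct.cancelBaseChange R T K K D)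
  by_cases hI : RingHom.ker (algebraMap R B) ≤ p
  · refine key B (RingHom.liftOfSurjective (algebraMap R B) (weak_of_isFibreSquare h).surjFst
      ⟨algebraMap R K, fun r hr => ?_⟩) (RingHom.liftOfRightInverse_comp _ _ _ _)
    rw [RingHom.mem_ker, Ideal.algebraMap_residueField_eq_zero]
    exact hI hr
  · obtain ⟨j, hj, hjp⟩ := SetLike.not_le_iff_exists.1 hI
    obtain ⟨ψ, hψ⟩ := exists_hom_snd h K (RingHom.mem_ker.1 hj) (by rwa [Ne, Ideal.algebraMap_residueField_eq_zero])
    exact key A' ψ hψ

end Groth.Agent.MilnorH7
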