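import Groth.Prelude.Def_EtMil
import Mathlib.RingTheory.Flat.Basic
import Mathlib.LinearAlgebra.TensorProduct.RightExactness
import Mathlib.LinearAlgebra.TensorProduct.Tower

/-!
Milnor squares: base change of modules along the two sides, and flatness.
-/

universe u

open TensorProduct

namespace Groth.Agent.MilnorH7

variable {B' B A' A : Type u} [CommRing B'] [CommRing B] [CommRing A'] [CommRing A]
  [Algebra B' B] [Algebra B' A'] [Algebra B A] [Algebra A' A] [Algebra B' A]
  [IsScalarTower B' B A] [IsScalarTower B' A' A]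

/-- A square whose horizontal maps are surjective and whose kernels surject. -/
structure Weak (B' B A' A : Type u) [CommRing B'] [CommRing B] [CommRing A'] [CommRing A]
    [Algebra B' B] [Algebra B' A'] [Algebra A' A] : Prop where
  surjFst : Function.Surjective (algebraMap B' B)
  surjA : Function.Surjective (algebraMap A' A)
  lift : ∀ a' : A', algebraMap A' A a' = 0 →
    ∃ j : B', algebraMap B' B j = 0 ∧ algebraMap B' A' j = a'

theorem weak_of_isFibreSquare (h : EtMil.IsFibreSquare B' B A' A) : Weak B' B A' A where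
  surjFst b := by
    obtain ⟨a', ha⟩ := h.1 (algebraMap B A b)
    obtain ⟨b', ⟨hb, -⟩, -⟩ := h.2 b a' ha.symm
    exact ⟨b', hb⟩
  surjA := h.1
  lift a' ha := by
    obtain ⟨b', hb, -⟩ := h.2 0 a' (by rw [map_zero, ha])
    exact ⟨b', hb⟩

theorem pair_ext (h : EtMil.IsFibreSquare B' B A' A) {x y : B'}
    (h1 : algebraMap B' B x = algebraMap B' B y) (h2 : algebraMap B' A' x = algebraMap B' A' y) :
    x = y := by
  refine (h.2 _ _ ?_).unique ⟨h1, h2⟩ ⟨rfl, rfl⟩
  rw [← IsScalarTower.algebraMap_apply, ← IsScalarTower.algebraMap_apply]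

theorem algebraMap_snd_eq_zero {j : B'} (hj : algebraMap B' B j = 0) :
    algebraMap A' A (algebraMap B' A' j) = 0 := by
  rw [← IsScalarTower.algebraMap_apply, IsScalarTower.algebraMap_apply B' B A, hj, map_zero]

section modules

variable (L : Type u) [AddCommGroup L] [Module B' L]

theorem mk_surjective_of_surjective (hs : Function.Surjective (algebraMap B' B)) :
    Function.Surjective (TensorProduct.mk B' B L 1) := by
  intro x
  induction x using TensorProduct.induction_on with
  | zero => exact ⟨0, map_zero _⟩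
  | tmul b l =>
    obtain ⟨r, rfl⟩ := hs b
    refine ⟨r • l, ?_⟩
    rw [TensorProduct.mk_apply, Algebra.algebraMap_eq_smul_one, TensorProduct.smul_tmul]
  | add x y hx hy =>
    obtain ⟨l, rfl⟩ := hx
    obtain ⟨l', rfl⟩ := hy
    exact ⟨l + l', map_add _ _ _⟩

theorem mem_smul_top_of_one_tmul_eq_zero (hs : Function.Surjective (algebraMap B' B)) {l : L}
    (hl : (1 : B) ⊗ₜ[B'] l = 0) : l ∈ RingHom.ker (algebraMap B' B) • (⊤ : Submodule B' L) := by
  have hex := rTensor_exact L (LinearMap.exact_subtype_ker_map (Algebra.linearMap B' B))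
    (fun x => hs x)
  have h0 : (Algebra.linearMap B' B).rTensor L ((1 : B') ⊗ₜ[B'] l) = 0 := by
    simpa using hl
  obtain ⟨y, hy⟩ := (hex _).1 h0
  have hy' := congrArg (TensorProduct.lid B' L) hy
  simp only [TensorProduct.lid_tmul, one_smul] at hy'
  rw [← hy']
  clear hy hy' h0 hl
  induction y using TensorProduct.induction_on with
  | zero => simp
  | tmul j m =>
    simp only [LinearMap.rTensor_tmul, Submodule.coe_subtype, TensorProduct.lid_tmul]
    refine Submodule.smul_mem_smul ?_ Submodule.mem_top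
    exact LinearMap.mem_ker.1 j.2
  | add a b ha hb =>
    simp only [map_add]
    exact add_mem ha hb

theorem one_tmul_eq_zero_of_mem {l : L}
    (hl : l ∈ RingHom.ker (algebraMap B' B) • (⊤ : Submodule B' L)) : (1 : B) ⊗ₜ[B'] l = 0 := by
  induction hl using Submodule.smul_induction_on' with
  | smul r hr m _ =>
    rw [← TensorProduct.smul_tmul, ← Algebra.algebraMap_eq_smul_one, RingHom.mem_ker.1 hr,
      TensorProduct.zero_tmul]
  | add a _ b _ ha hb => rw [TensorProduct.tmul_add, ha, hb, add_zero]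

theorem exists_one_tmul_of_rTensor_eq_zero (h : Weak B' B A' A) {x : A' ⊗[B'] L}
    (hx : (IsScalarTower.toAlgHom B' A' A).toLinearMap.rTensor L x = 0) :
    ∃ l ∈ RingHom.ker (algebraMap B' B) • (⊤ : Submodule B' L), (1 : A') ⊗ₜ[B'] l = x := by
  have hex := rTensor_exact L
    (LinearMap.exact_subtype_ker_map (IsScalarTower.toAlgHom B' A' A).toLinearMap)
    (fun a => h.surjA a)
  obtain ⟨y, rfl⟩ := (hex _).1 hx
  clear hx
  induction y using TensorProduct.induction_on with
  | zero => exact ⟨0, zero_mem _, by simp⟩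
  | tmul i m =>
    obtain ⟨j, hj, hji⟩ := h.lift (i : A') (LinearMap.mem_ker.1 i.2)
    refine ⟨j • m, Submodule.smul_mem_smul (by exact hj) Submodule.mem_top, ?_⟩
    rw [← TensorProduct.smul_tmul, ← Algebra.algebraMap_eq_smul_one, hji]
    rfl
  | add a b ha hb =>
    obtain ⟨l, hl, hla⟩ := ha
    obtain ⟨l', hl', hlb⟩ := hb
    exact ⟨l + l', add_mem hl hl', by rw [TensorProduct.tmul_add, hla, hlb, map_add]⟩

theorem exists_lift_pair (h : Weak B' B A' A) (x : B ⊗[B'] L) (y : A' ⊗[B'] L)
    (hxy : (IsScalarTower.toAlgHom B' B A).toLinearMap.rTensor L x =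
      (IsScalarTower.toAlgHom B' A' A).toLinearMap.rTensor L y) :
    ∃ l : L, (1 : B) ⊗ₜ[B'] l = x ∧ (1 : A') ⊗ₜ[B'] l = y := by
  obtain ⟨l₀, rfl⟩ := mk_surjective_of_surjective L h.surjFst x
  have h0 : (IsScalarTower.toAlgHom B' A' A).toLinearMap.rTensor L (y - (1 : A') ⊗ₜ[B'] l₀) = 0 := by
    rw [map_sub, ← hxy]
    simp
  obtain ⟨l, hl, hly⟩ := exists_one_tmul_of_rTensor_eq_zero L h h0
  refine ⟨l₀ + l, ?_, ?_⟩
  · rw [TensorProduct.tmul_add, one_tmul_eq_zero_of_mem L hl, add_zero]
    rfl
  · rw [TensorProduct.tmul_add, hly, add_sub_cancel]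

/-- An element killed by `A' ⊗ -` is killed by the kernel of `B' → B`. -/
theorem smul_eq_zero_of_tmul_eq_zero (h : EtMil.IsFibreSquare B' B A' A) {j : B'}
    (hj : algebraMap B' B j = 0) {l : L} (hl : (1 : A') ⊗ₜ[B'] l = 0) : j • l = 0 := by
  have hex : ∀ a' : A', ∃ b : B', algebraMap B' B b = 0 ∧ algebraMap B' A' b = algebraMap B' A' j * a' :=
    fun a' => (weak_of_isFibreSquare h).lift _ (by rw [map_mul, algebraMap_snd_eq_zero hj, zero_mul])
  choose g hg0 hg using hex
  let ψ : A' →ₗ[B'] B' :=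
    { toFun := g
      map_add' := fun a b => pair_ext h (by simp [hg0]) (by simp [hg, mul_add])
      map_smul' := fun r a => pair_ext h (by simp [hg0])
        (by simp [hg, Algebra.smul_def, mul_left_comm]) }
  have h1 : ψ 1 = j := pair_ext h (by simp [ψ, hg0, hj]) (by simp [ψ, hg])
  have h2 := congrArg (fun z => TensorProduct.lid B' L (ψ.rTensor L z)) hl
  simpa [h1] using h2

theorem subsingleton_of_pair (h : EtMil.IsFibreSquare B' B A' A)
    [Subsingleton (B ⊗[B'] L)] [Subsingleton (A' ⊗[B'] L)] : Subsingleton L := by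
  refine ⟨fun a b => sub_eq_zero.1 ?_⟩
  have hm := mem_smul_top_of_one_tmul_eq_zero L (weak_of_isFibreSquare h).surjFst
    (l := a - b) (Subsingleton.elim _ _)
  generalize a - b = z at hm
  induction hm using Submodule.smul_induction_on' with
  | smul j hj m _ => exact smul_eq_zero_of_tmul_eq_zero L h hj (Subsingleton.elim _ _)
  | add x _ y _ hx hy => rw [hx, hy, add_zero]

theorem finite_of_pair (h : EtMil.IsFibreSquare B' B A' A)
    [Module.Finite B (B ⊗[B'] L)] [Module.Finite A' (A' ⊗[B'] L)] : Module.Finite B' L := by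
  classical
  have key : ∀ (S : Type u) [CommRing S] [Algebra B' S] [Module.Finite S (S ⊗[B'] L)],
      ∃ s : Finset L, Submodule.span S ((fun l => (1 : S) ⊗ₜ[B'] l) '' (s : Set L)) = ⊤ := by
    intro S _ _ hfin
    have htop : Submodule.span S (Set.range fun l : L => (1 : S) ⊗ₜ[B'] l) = ⊤ := by
      rw [eq_top_iff]
      rintro x -
      induction x using TensorProduct.induction_on with
      | zero => exact zero_mem _
      | tmul a l =>
        have : a ⊗ₜ[B'] l = a • ((1 : S) ⊗ₜ[B'] l) := by rw [TensorProduct.smul_tmul', smul_eq_mul, mul_one]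
        rw [this]
        exact Submodule.smul_mem _ _ (Submodule.subset_span ⟨l, rfl⟩)
      | add a b ha hb => exact add_mem ha hb
    have hfg : (⊤ : Submodule S (S ⊗[B'] L)).FG := hfin.1
    rw [← htop] at hfg ⊢
    obtain ⟨s', hs', hspan⟩ := Submodule.fg_span_iff_fg_span_finset_subset _ |>.1 hfg
    choose g hg using fun x : s' => hs' x.2
    refine ⟨Finset.univ.image g, hspan.trans ?_ |>.symm⟩
    refine le_antisymm (Submodule.span_mono ?_) ?_
    · intro x hx
      exact ⟨g ⟨x, hx⟩, by simp, hg ⟨x, hx⟩⟩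
    · rw [← hspan]
      exact Submodule.span_mono (Set.image_subset_range _ _)
  obtain ⟨s, hs⟩ := key B
  obtain ⟨t, ht⟩ := key A'
  let L₀ : Submodule B' L := Submodule.span B' (↑(s ∪ t) : Set L)
  have hsub : ∀ (S : Type u) [CommRing S] [Algebra B' S] (u : Finset L), u ⊆ s ∪ t →
      Submodule.span S ((fun l => (1 : S) ⊗ₜ[B'] l) '' (u : Set L)) = ⊤ →
      Subsingleton (S ⊗[B'] (L ⧸ L₀)) := by
    intro S _ _ u hu hu'
    refine subsingleton_iff_forall_eq 0 |>.2 fun x => ?_
    obtain ⟨y, rfl⟩ := LinearMap.lTensor_surjective S L₀.mkQ_surjective x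
    have hy : y ∈ Submodule.span S ((fun l => (1 : S) ⊗ₜ[B'] l) '' (u : Set L)) := hu' ▸ Submodule.mem_top
    induction hy using Submodule.span_induction with
    | mem z hz =>
      obtain ⟨l, hl, rfl⟩ := hz
      simp [(Submodule.Quotient.mk_eq_zero L₀).2 (Submodule.subset_span (hu hl))]
    | zero => simp
    | add a b _ _ ha hb => rw [map_add, ha, hb, add_zero]
    | smul c a _ ha =>
      show (L₀.mkQ.baseChange S) (c • a) = 0
      rw [map_smul]
      show c • (L₀.mkQ.lTensor S) a = 0
      rw [ha, smul_zero]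
  haveI := hsub B s Finset.subset_union_left hs
  haveI := hsub A' t Finset.subset_union_right ht
  haveI := subsingleton_of_pair (L ⧸ L₀) h
  have : L₀ = ⊤ := Submodule.Quotient.subsingleton_iff.1 inferInstance
  exact ⟨⟨s ∪ t, this⟩⟩

end modules

end Groth.Agent.MilnorH7
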