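import Groth.Agent.Lib.MilnorSqH7.Basic
import Mathlib.RingTheory.Flat.Tensor
import Mathlib.RingTheory.Ideal.Operations
import Mathlib.LinearAlgebra.TensorProduct.Prod

/-!
Flatness of a module over a Milnor square from flatness of the two base changes.
-/

universe u

open TensorProduct

namespace Groth.Agent.MilnorH7

/-- `rTensor` of an `S`-linear injection is injective when `S ⊗ L` is `S`-flat. -/
theorem rTensor_injective_of_flat_baseChange {R S : Type u} [CommRing R] [CommRing S] [Algebra R S]
    (L : Type u) [AddCommGroup L] [Module R L] [Module.Flat S (S ⊗[R] L)]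
    {P Q : Type u} [AddCommGroup P] [Module R P] [Module S P] [IsScalarTower R S P]
    [AddCommGroup Q] [Module R Q] [Module S Q] [IsScalarTower R S Q]
    (f : P →ₗ[S] Q) (hf : Function.Injective f) :
    Function.Injective ((f.restrictScalars R).rTensor L) := by
  let eP := TensorProduct.AlgebraTensorModule.cancelBaseChange R S S P L
  let eQ := TensorProduct.AlgebraTensorModule.cancelBaseChange R S S Q L
  have key : ∀ x, (f.restrictScalars R).rTensor L (eP x) = eQ (f.rTensor (S ⊗[R] L) x) := by
    intro x
    induction x using TensorProduct.induction_on with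
    | zero => simp
    | tmul p t =>
      induction t using TensorProduct.induction_on with
      | zero => simp
      | tmul s l => simp [eP, eQ]
      | add a b ha hb => simp only [TensorProduct.tmul_add, map_add, ha, hb]
    | add a b ha hb => simp only [map_add, ha, hb]
  intro x y hxy
  obtain ⟨x, rfl⟩ := eP.surjective x
  obtain ⟨y, rfl⟩ := eP.surjective y
  rw [key, key] at hxy
  rw [Module.Flat.rTensor_preserves_injective_linearMap f hf (eQ.injective hxy)]

variable {B' B A' A : Type u} [CommRing B'] [CommRing B] [CommRing A'] [CommRing A]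
  [Algebra B' B] [Algebra B' A'] [Algebra B A] [Algebra A' A] [Algebra B' A]
  [IsScalarTower B' B A] [IsScalarTower B' A' A]

/-- Modules killed by the kernel of a surjection `B' → B` behave as `B`-modules. -/
theorem rTensor_injective_of_killed (hs : Function.Surjective (algebraMap B' B))
    (L : Type u) [AddCommGroup L] [Module B' L] [Module.Flat B (B ⊗[B'] L)]
    {P Q : Type u} [AddCommGroup P] [Module B' P] [AddCommGroup Q] [Module B' Q]
    (hP : ∀ (j : B') (p : P), algebraMap B' B j = 0 → j • p = 0)
    (hQ : ∀ (j : B') (q : Q), algebraMap B' B j = 0 → j • q = 0)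
    (f : P →ₗ[B'] Q) (hf : Function.Injective f) : Function.Injective (f.rTensor L) := by
  have hbij : ∀ (X : Type u) [AddCommGroup X] [Module B' X],
      (∀ (j : B') (x : X), algebraMap B' B j = 0 → j • x = 0) →
      Function.Bijective (TensorProduct.mk B' B X 1) := by
    intro X _ _ hX
    refine ⟨(injective_iff_map_eq_zero _).2 fun x hx => ?_, mk_surjective_of_surjective X hs⟩
    have hm := mem_smul_top_of_one_tmul_eq_zero X hs hx
    induction hm using Submodule.smul_induction_on' with
    | smul j hj m _ => exact hX j m hj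
    | add a ha b hb iha ihb => rw [iha (one_tmul_eq_zero_of_mem X ha), ihb (one_tmul_eq_zero_of_mem X hb), add_zero]
  have hfB : Function.Injective (f.baseChange B) := by
    intro a b hab
    obtain ⟨a, rfl⟩ := (hbij P hP).2 a
    obtain ⟨b, rfl⟩ := (hbij P hP).2 b
    simp only [TensorProduct.mk_apply, LinearMap.baseChange_tmul] at hab
    rw [hf ((hbij Q hQ).1 hab)]
  let eP := LinearEquiv.ofBijective _ (hbij P hP)
  let eQ := LinearEquiv.ofBijective _ (hbij Q hQ)
  have key : ∀ x : P ⊗[B'] L, eQ.toLinearMap.rTensor L (f.rTensor L x) =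
      ((f.baseChange B).restrictScalars B').rTensor L (eP.toLinearMap.rTensor L x) := by
    intro x
    induction x using TensorProduct.induction_on with
    | zero => simp
    | tmul p l => simp [eP, eQ]
    | add a b ha hb => simp only [map_add, ha, hb]
  intro x y hxy
  have h1 := congrArg (eQ.toLinearMap.rTensor L) hxy
  rw [key, key] at h1
  have h2 := rTensor_injective_of_flat_baseChange L (f.baseChange B) hfB h1
  exact (LinearEquiv.rTensor L eP).injective h2

theorem flat_of_pair (h : EtMil.IsFibreSquare B' B A' A) (L : Type u) [AddCommGroup L] [Module B' L]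
    [Module.Flat B (B ⊗[B'] L)] [Module.Flat A' (A' ⊗[B'] L)] : Module.Flat B' L := by
  rw [Module.Flat.iff_rTensor_injective']
  intro J
  rw [injective_iff_map_eq_zero]
  intro x hx
  let I' : Ideal B' := RingHom.ker (algebraMap B' B)
  have hs := (weak_of_isFibreSquare h).surjFst
  -- the image of `J` in `B`
  let Jb : Ideal B := J.map (algebraMap B' B)
  let q : J →ₗ[B'] Jb :=
    { toFun := fun j => ⟨algebraMap B' B j.1, Ideal.mem_map_of_mem _ j.2⟩
      map_add' := fun a b => Subtype.ext (map_add _ _ _)
      map_smul' := fun r a => Subtype.ext (by simp [Algebra.smul_def]) }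
  have hq : Function.Surjective q := fun b => by
    obtain ⟨j, hj, hjb⟩ := (Ideal.mem_map_iff_of_surjective _ hs).1 b.2
    exact ⟨⟨j, hj⟩, Subtype.ext hjb⟩
  let J₀ : Submodule B' B' := J ⊓ I'
  let ι : J₀ →ₗ[B'] J := Submodule.inclusion inf_le_left
  have hex : Function.Exact ι q := by
    intro j
    refine ⟨fun hj => ⟨⟨j.1, j.2, congrArg Subtype.val hj⟩, rfl⟩, ?_⟩
    rintro ⟨k, rfl⟩
    exact Subtype.ext k.2.2
  have hqx : q.rTensor L x = 0 := by
    have hinj : Function.Injective ((Jb.subtype.restrictScalars B').rTensor L) :=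
      rTensor_injective_of_flat_baseChange L Jb.subtype Jb.injective_subtype
    apply hinj
    rw [map_zero, ← LinearMap.comp_apply, ← LinearMap.rTensor_comp]
    have : (Jb.subtype.restrictScalars B').comp q = (Algebra.linearMap B' B).comp J.subtype :=
      LinearMap.ext fun j => rfl
    rw [this, LinearMap.rTensor_comp, LinearMap.comp_apply, hx, map_zero]
  obtain ⟨y, rfl⟩ := (rTensor_exact L hex hq _).1 hqx
  -- the `A'`-ideals generated by `J₀` and `I' * J`
  let Jh : Ideal A' := Ideal.map (algebraMap B' A') J₀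
  let K₀ : Ideal B' := I' * J
  let Kh : Ideal A' := Ideal.map (algebraMap B' A') K₀
  let e : J₀ →ₗ[B'] Jh :=
    { toFun := fun j => ⟨algebraMap B' A' j.1, Ideal.mem_map_of_mem _ j.2⟩
      map_add' := fun a b => Subtype.ext (map_add _ _ _)
      map_smul' := fun r a => Subtype.ext (by simp [Algebra.smul_def]) }
  have hey : e.rTensor L y = 0 := by
    have hinj : Function.Injective ((Jh.subtype.restrictScalars B').rTensor L) :=
      rTensor_injective_of_flat_baseChange L Jh.subtype Jh.injective_subtype
    apply hinj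
    rw [map_zero, ← LinearMap.comp_apply, ← LinearMap.rTensor_comp]
    have : (Jh.subtype.restrictScalars B').comp e =
        (Algebra.linearMap B' A').comp (J.subtype.comp ι) :=
      LinearMap.ext fun j => rfl
    rw [this, LinearMap.rTensor_comp, LinearMap.comp_apply, LinearMap.rTensor_comp, LinearMap.comp_apply,
      hx, map_zero]
  have hK₀ : K₀ ≤ J₀ := le_inf Ideal.mul_le_right Ideal.mul_le_left
  let K₀' : Submodule B' J₀ := Submodule.comap J₀.subtype K₀
  let Kh' : Submodule B' Jh := Submodule.comap (Jh.subtype.restrictScalars B') (Kh.restrictScalars B')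
  have hmap : K₀' ≤ Kh'.comap e := fun j hj => Ideal.mem_map_of_mem (algebraMap B' A') hj
  let eb : (J₀ ⧸ K₀') →ₗ[B'] (Jh ⧸ Kh') := Submodule.mapQ K₀' Kh' e hmap
  -- elements of `K̂` come from `K₀`
  have hKh : ∀ a ∈ Kh, ∃ k ∈ K₀, algebraMap B' A' k = a := by
    intro a ha
    induction ha using Submodule.span_induction with
    | mem z hz =>
      obtain ⟨k, hk, rfl⟩ := hz
      exact ⟨k, hk, rfl⟩
    | zero => exact ⟨0, zero_mem _, map_zero _⟩
    | add a b _ _ ha hb =>
      obtain ⟨k, hk, rfl⟩ := ha
      obtain ⟨k', hk', rfl⟩ := hb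
      exact ⟨k + k', add_mem hk hk', map_add _ _ _⟩
    | smul c a ha' ha =>
      obtain ⟨k, hk, rfl⟩ := ha
      clear ha'
      induction hk using Submodule.mul_induction_on' with
      | mem_mul_mem j hj r hr =>
        obtain ⟨j', hj', hjc⟩ := (weak_of_isFibreSquare h).lift (c * algebraMap B' A' j)
          (by rw [map_mul, algebraMap_snd_eq_zero hj, mul_zero])
        exact ⟨j' * r, Ideal.mul_mem_mul hj' hr, by
          rw [map_mul, hjc, smul_eq_mul, map_mul, mul_assoc]⟩
      | add a _ b _ ha hb =>
        obtain ⟨k, hk, hka⟩ := ha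
        obtain ⟨k', hk', hkb⟩ := hb
        exact ⟨k + k', add_mem hk hk', by rw [map_add, hka, hkb, map_add, smul_add]⟩
  have hKbot : ∀ k ∈ K₀, algebraMap B' B k = 0 := fun k hk => (hK₀ hk).2
  have heb : Function.Injective eb := by
    rw [injective_iff_map_eq_zero]
    intro a ha
    obtain ⟨j, rfl⟩ := K₀'.mkQ_surjective a
    rw [Submodule.mkQ_apply, Submodule.mapQ_apply, Submodule.Quotient.mk_eq_zero] at ha
    obtain ⟨k, hk, hkj⟩ := hKh _ ha
    rw [Submodule.mkQ_apply, Submodule.Quotient.mk_eq_zero]
    show (j : B') ∈ K₀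
    rwa [← pair_ext h (x := k) (y := (j : B')) ((hKbot k hk).trans (RingHom.mem_ker.1 j.2.2).symm) hkj]
  have hkillP : ∀ (j : B') (p : J₀ ⧸ K₀'), algebraMap B' B j = 0 → j • p = 0 := by
    intro j p hj
    obtain ⟨p, rfl⟩ := K₀'.mkQ_surjective p
    rw [← map_smul, Submodule.mkQ_apply, Submodule.Quotient.mk_eq_zero]
    exact Ideal.mul_mem_mul (I := I') (J := J) hj p.2.1
  have hkillQ : ∀ (j : B') (p : Jh ⧸ Kh'), algebraMap B' B j = 0 → j • p = 0 := by
    intro j p hj
    obtain ⟨p, rfl⟩ := Kh'.mkQ_surjective p
    rw [← map_smul, Submodule.mkQ_apply, Submodule.Quotient.mk_eq_zero]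
    show j • (p : A') ∈ Kh
    rw [Algebra.smul_def]
    have hle : Jh ≤ Ideal.map (algebraMap B' A') J := Ideal.map_mono inf_le_left
    show _ ∈ Ideal.map (algebraMap B' A') (I' * J)
    rw [Ideal.map_mul]
    exact Ideal.mul_mem_mul (Ideal.mem_map_of_mem _ hj) (hle p.2)
  have hyq : (K₀'.mkQ).rTensor L y = 0 := by
    apply rTensor_injective_of_killed hs L hkillP hkillQ eb heb
    rw [map_zero, ← LinearMap.comp_apply, ← LinearMap.rTensor_comp]
    have : eb.comp K₀'.mkQ = Kh'.mkQ.comp e := LinearMap.ext fun j => rfl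
    rw [this, LinearMap.rTensor_comp, LinearMap.comp_apply, hey, map_zero]
  obtain ⟨z, rfl⟩ := (rTensor_exact L (LinearMap.exact_subtype_mkQ K₀') K₀'.mkQ_surjective _).1 hyq
  let k : K₀' →ₗ[B'] Kh :=
    { toFun := fun j => ⟨algebraMap B' A' (j.1 : B'), Ideal.mem_map_of_mem _ j.2⟩
      map_add' := fun a b => Subtype.ext (map_add _ _ _)
      map_smul' := fun r a => Subtype.ext (by simp [Algebra.smul_def]) }
  have hk : Function.Bijective k := by
    refine ⟨fun a b hab => Subtype.ext (Subtype.ext (pair_ext h
      ((hKbot _ a.2).trans (hKbot _ b.2).symm) (congrArg Subtype.val hab))), fun a => ?_⟩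
    obtain ⟨c, hc, hca⟩ := hKh _ a.2
    exact ⟨⟨⟨c, hK₀ hc⟩, hc⟩, Subtype.ext hca⟩
  have hz : z = 0 := by
    apply (LinearEquiv.rTensor L (LinearEquiv.ofBijective k hk)).injective
    have hinj : Function.Injective ((Kh.subtype.restrictScalars B').rTensor L) :=
      rTensor_injective_of_flat_baseChange L Kh.subtype Kh.injective_subtype
    apply hinj
    rw [map_zero, map_zero]
    show (Kh.subtype.restrictScalars B').rTensor L (k.rTensor L z) = 0
    rw [← LinearMap.comp_apply, ← LinearMap.rTensor_comp]
    have : (Kh.subtype.restrictScalars B').comp k =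
        ((Algebra.linearMap B' A').comp (J.subtype.comp ι)).comp K₀'.subtype :=
      LinearMap.ext fun j => rfl
    rw [this]
    simp only [LinearMap.rTensor_comp, LinearMap.comp_apply, hx, map_zero]
  simp [hz]

/-- For flat `L` the map to the pair of base changes is injective. -/
theorem eq_zero_of_pair (h : EtMil.IsFibreSquare B' B A' A) (L : Type u) [AddCommGroup L] [Module B' L]
    [Module.Flat B' L] {l : L} (h1 : (1 : B) ⊗ₜ[B'] l = 0) (h2 : (1 : A') ⊗ₜ[B'] l = 0) : l = 0 := by
  let g : B' →ₗ[B'] B × A' := (Algebra.linearMap B' B).prod (Algebra.linearMap B' A')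
  have hg : Function.Injective g := fun x y hxy =>
    pair_ext h (congrArg Prod.fst hxy) (congrArg Prod.snd hxy)
  have h3 := Module.Flat.rTensor_preserves_injective_linearMap (M := L) g hg
  have h4 : (1 : B') ⊗ₜ[B'] l = 0 := by
    apply h3
    rw [map_zero]
    apply (TensorProduct.prodLeft B' B' B A' L).injective
    simp [g, h1, h2]
  simpa using congrArg (TensorProduct.lid B' L) h4

end Groth.Agent.MilnorH7
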