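import Groth.Agent.Lib.MilnorSqH7.Flat
import Mathlib.RingTheory.Flat.EquationalCriterion
import Mathlib.Algebra.Module.FinitePresentation
import Mathlib.LinearAlgebra.TensorProduct.Tower

/-!
The glued module over a Milnor square.
-/

universe u

open TensorProduct

namespace Groth.Agent.MilnorH7

variable {B' B A' A : Type u} [CommRing B'] [CommRing B] [CommRing A'] [CommRing A]
  [Algebra B' B] [Algebra B' A'] [Algebra B A] [Algebra A' A] [Algebra B' A]
  [IsScalarTower B' B A] [IsScalarTower B' A' A]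
  {N M' : Type u} [AddCommGroup N] [Module B N] [Module B' N] [IsScalarTower B' B N]
  [AddCommGroup M'] [Module A' M'] [Module B' M'] [IsScalarTower B' A' M']
  (φ : A ⊗[B] N ≃ₗ[A] A ⊗[A'] M')

omit [Algebra B' B] [IsScalarTower B' B A] [Module B' N] [IsScalarTower B' B N]
  [IsScalarTower B' A' A] [IsScalarTower B' A' M'] in
theorem exists_one_tmul (hA : Function.Surjective (algebraMap A' A)) (t : A ⊗[A'] M') :
    ∃ m : M', (1 : A) ⊗ₜ[A'] m = t :=
  mk_surjective_of_surjective M' hA t

theorem fst_surjective (hA : Function.Surjective (algebraMap A' A)) :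
    Function.Surjective (EtMil.glueFst B' φ) := fun n => by
  obtain ⟨m, hm⟩ := exists_one_tmul hA (φ ((1 : A) ⊗ₜ[B] n))
  exact ⟨⟨(n, m), hm.symm⟩, rfl⟩

/-- The images of the glued module span `M'` over `A'`. -/
theorem span_snd_eq_top (hA : Function.Surjective (algebraMap A' A)) :
    Submodule.span A' (Set.range (EtMil.glueSnd B' φ)) = ⊤ := by
  rw [eq_top_iff]
  rintro m -
  set S := Submodule.span A' (Set.range (EtMil.glueSnd B' φ))
  have hz : ∀ y : M', (1 : A) ⊗ₜ[A'] y = 0 → y ∈ S := fun y hy =>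
    Submodule.subset_span ⟨⟨((0 : N), y), by
      show φ ((1 : A) ⊗ₜ[B] (0 : N)) = _
      rw [TensorProduct.tmul_zero, map_zero, hy]⟩, rfl⟩
  have hP : ∀ t : A ⊗[B] N, ∃ y ∈ S, (1 : A) ⊗ₜ[A'] y = φ t := by
    intro t
    induction t using TensorProduct.induction_on with
    | zero => exact ⟨0, zero_mem _, by simp⟩
    | tmul a n =>
      obtain ⟨x, hx⟩ := fst_surjective (B' := B') φ hA n
      obtain ⟨a', ha⟩ := hA a
      refine ⟨a' • EtMil.glueSnd B' φ x, Submodule.smul_mem _ _ (Submodule.subset_span ⟨x, rfl⟩), ?_⟩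
      have hx' : φ ((1 : A) ⊗ₜ[B] x.1.1) = (1 : A) ⊗ₜ[A'] x.1.2 := x.2
      have hn : x.1.1 = n := hx
      rw [hn] at hx'
      have : a ⊗ₜ[B] n = a • ((1 : A) ⊗ₜ[B] n) := by rw [TensorProduct.smul_tmul', smul_eq_mul, mul_one]
      rw [this, map_smul, hx', ← ha, IsScalarTower.algebraMap_smul A a', TensorProduct.tmul_smul]
      rfl
    | add a b ha hb =>
      obtain ⟨y, hy, hya⟩ := ha
      obtain ⟨z, hz, hzb⟩ := hb
      exact ⟨y + z, add_mem hy hz, by rw [TensorProduct.tmul_add, hya, hzb, map_add]⟩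
  obtain ⟨y, hy, hym⟩ := hP (φ.symm ((1 : A) ⊗ₜ[A'] m))
  rw [LinearEquiv.apply_symm_apply] at hym
  have := hz (m - y) (by rw [TensorProduct.tmul_sub, hym, sub_self])
  simpa using add_mem this hy

theorem mem_smul_of_fst_eq_zero (h : Weak B' B A' A) (L₀ : Submodule B' ↥(EtMil.glue B' φ))
    (hL : Submodule.span A' (EtMil.glueSnd B' φ '' (L₀ : Set ↥(EtMil.glue B' φ))) = ⊤)
    {x : ↥(EtMil.glue B' φ)} (hx : EtMil.glueFst B' φ x = 0) :
    x ∈ RingHom.ker (algebraMap B' B) • L₀ := by
  have hx' : φ ((1 : A) ⊗ₜ[B] x.1.1) = (1 : A) ⊗ₜ[A'] x.1.2 := x.2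
  have hn : x.1.1 = 0 := hx
  rw [hn, TensorProduct.tmul_zero, map_zero] at hx'
  have hm := mem_smul_top_of_one_tmul_eq_zero M' h.surjA hx'.symm
  have key : ∀ i ∈ RingHom.ker (algebraMap A' A), ∀ m : M', ∃ y ∈ RingHom.ker (algebraMap B' B) • L₀,
      EtMil.glueFst B' φ y = 0 ∧ EtMil.glueSnd B' φ y = i • m := by
    intro i hi m
    have hmem : m ∈ Submodule.span A' (EtMil.glueSnd B' φ '' (L₀ : Set ↥(EtMil.glue B' φ))) :=
      hL ▸ Submodule.mem_top
    induction hmem using Submodule.span_induction generalizing i with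
    | mem z hz =>
      obtain ⟨l, hl, rfl⟩ := hz
      obtain ⟨j, hj, rfl⟩ := h.lift i hi
      refine ⟨j • l, Submodule.smul_mem_smul (by exact hj) hl, ?_, ?_⟩
      · rw [map_smul, ← IsScalarTower.algebraMap_smul B j, hj, zero_smul]
      · rw [map_smul, IsScalarTower.algebraMap_smul]
    | zero => exact ⟨0, zero_mem _, by simp, by simp⟩
    | add a b _ _ ha hb =>
      obtain ⟨y, hy, hy1, hy2⟩ := ha i hi
      obtain ⟨z, hz, hz1, hz2⟩ := hb i hi
      exact ⟨y + z, add_mem hy hz, by rw [map_add, hy1, hz1, add_zero], by rw [map_add, hy2, hz2, smul_add]⟩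
    | smul c a _ ha =>
      obtain ⟨y, hy, hy1, hy2⟩ := ha (i * c) (Ideal.mul_mem_right _ _ hi)
      exact ⟨y, hy, hy1, by rw [hy2, mul_smul]⟩
  have : ∀ m ∈ RingHom.ker (algebraMap A' A) • (⊤ : Submodule A' M'),
      ∃ y ∈ RingHom.ker (algebraMap B' B) • L₀,
        EtMil.glueFst B' φ y = 0 ∧ EtMil.glueSnd B' φ y = m := by
    intro m hm
    induction hm using Submodule.smul_induction_on' with
    | smul r hr z _ => exact key r hr z
    | add a _ b _ ha hb =>
      obtain ⟨y, hy, hy1, hy2⟩ := ha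
      obtain ⟨z, hz, hz1, hz2⟩ := hb
      exact ⟨y + z, add_mem hy hz, by rw [map_add, hy1, hz1, add_zero], by rw [map_add, hy2, hz2]⟩
  obtain ⟨y, hy, hy1, hy2⟩ := this _ hm
  have hxy : x = y := Subtype.ext (Prod.ext (hn.trans hy1.symm) hy2.symm)
  exact hxy ▸ hy

theorem glue_finite (h : Weak B' B A' A) [Module.Finite B N] [Module.Finite A' M'] :
    Module.Finite B' ↥(EtMil.glue B' φ) := by
  classical
  obtain ⟨a, s, hs⟩ := Module.Finite.exists_fin (R := B) (M := N)
  choose g hg using fun i => fst_surjective (B' := B') φ h.surjA (s i)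
  obtain ⟨t, ht, htspan⟩ := (Submodule.fg_span_iff_fg_span_finset_subset
    (Set.range (EtMil.glueSnd B' φ))).1 (by rw [span_snd_eq_top φ h.surjA]; exact Module.Finite.fg_top)
  rw [span_snd_eq_top φ h.surjA] at htspan
  choose g' hg' using fun x : t => ht x.2
  let L₀ : Submodule B' ↥(EtMil.glue B' φ) :=
    Submodule.span B' (↑(Finset.univ.image g ∪ Finset.univ.image g') : Set _)
  have hL : Submodule.span A' (EtMil.glueSnd B' φ '' (L₀ : Set ↥(EtMil.glue B' φ))) = ⊤ := by
    rw [eq_top_iff, htspan]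
    refine Submodule.span_mono fun x hx => ⟨g' ⟨x, hx⟩, Submodule.subset_span ?_, hg' ⟨x, hx⟩⟩
    simp
  refine ⟨⟨Finset.univ.image g ∪ Finset.univ.image g', eq_top_iff.2 fun x _ => ?_⟩⟩
  show x ∈ L₀
  have hfst : ∀ n : N, ∃ y ∈ L₀, EtMil.glueFst B' φ y = n := by
    intro n
    have hn : n ∈ Submodule.span B (Set.range s) := hs ▸ Submodule.mem_top
    induction hn using Submodule.span_induction with
    | mem z hz =>
      obtain ⟨i, rfl⟩ := hz
      exact ⟨g i, Submodule.subset_span (by simp), hg i⟩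
    | zero => exact ⟨0, zero_mem _, map_zero _⟩
    | add a b _ _ ha hb =>
      obtain ⟨y, hy, rfl⟩ := ha
      obtain ⟨z, hz, rfl⟩ := hb
      exact ⟨y + z, add_mem hy hz, map_add _ _ _⟩
    | smul c a _ ha =>
      obtain ⟨r, rfl⟩ := h.surjFst c
      obtain ⟨y, hy, rfl⟩ := ha
      exact ⟨r • y, Submodule.smul_mem _ _ hy, by rw [map_smul, IsScalarTower.algebraMap_smul]⟩
  obtain ⟨y, hy, hyx⟩ := hfst (EtMil.glueFst B' φ x)
  have := Submodule.smul_le_right (mem_smul_of_fst_eq_zero φ h L₀ hL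
    (x := x - y) (by rw [map_sub, hyx, sub_self]))
  simpa using add_mem this hy

theorem glue_baseChange_fst_bijective (h : Weak B' B A' A) :
    Function.Bijective (LinearMap.liftBaseChange B (EtMil.glueFst B' φ)) := by
  have hone : ∀ l, LinearMap.liftBaseChange B (EtMil.glueFst B' φ) ((1 : B) ⊗ₜ[B'] l) =
      EtMil.glueFst B' φ l := fun l => by simp
  refine ⟨(injective_iff_map_eq_zero _).2 fun x hx => ?_, fun n => ?_⟩
  · obtain ⟨l, rfl⟩ := mk_surjective_of_surjective ↥(EtMil.glue B' φ) h.surjFst x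
    rw [TensorProduct.mk_apply, hone] at hx
    refine one_tmul_eq_zero_of_mem _ (mem_smul_of_fst_eq_zero φ h ⊤ ?_ hx)
    simpa using span_snd_eq_top φ h.surjA
  · obtain ⟨l, rfl⟩ := fst_surjective (B' := B') φ h.surjA n
    exact ⟨(1 : B) ⊗ₜ[B'] l, hone l⟩

theorem glue_baseChange_snd_bijective (h : EtMil.IsFibreSquare B' B A' A) :
    Function.Bijective (LinearMap.liftBaseChange A' (EtMil.glueSnd B' φ)) := by
  have hw := weak_of_isFibreSquare h
  constructor
  · rw [injective_iff_map_eq_zero]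
    intro x hx
    let e₁ := LinearEquiv.ofBijective _ (glue_baseChange_fst_bijective φ hw)
    let G : A ⊗[B'] ↥(EtMil.glue B' φ) ≃ₗ[A] A ⊗[A'] M' :=
      (TensorProduct.AlgebraTensorModule.cancelBaseChange B' B A A ↥(EtMil.glue B' φ)).symm ≪≫ₗ
        (TensorProduct.AlgebraTensorModule.congr (LinearEquiv.refl A A) e₁) ≪≫ₗ φ
    have hG : ∀ z : A' ⊗[B'] ↥(EtMil.glue B' φ),
        G ((IsScalarTower.toAlgHom B' A' A).toLinearMap.rTensor _ z) =
          (1 : A) ⊗ₜ[A'] LinearMap.liftBaseChange A' (EtMil.glueSnd B' φ) z := by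
      intro z
      induction z using TensorProduct.induction_on with
      | zero => simp
      | tmul a l =>
        have hl : φ ((1 : A) ⊗ₜ[B] l.1.1) = (1 : A) ⊗ₜ[A'] l.1.2 := l.2
        simp [G, e₁, EtMil.glueFst, EtMil.glueSnd]
        have : algebraMap A' A a ⊗ₜ[B] l.1.1 = algebraMap A' A a • ((1 : A) ⊗ₜ[B] l.1.1) := by
          rw [TensorProduct.smul_tmul', smul_eq_mul, mul_one]
        rw [this, map_smul, hl, IsScalarTower.algebraMap_smul]
      | add a b ha hb => simp only [map_add, ha, hb, TensorProduct.tmul_add]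
    have h0 : (IsScalarTower.toAlgHom B' A' A).toLinearMap.rTensor _ x = 0 := by
      apply G.injective
      rw [hG, hx, TensorProduct.tmul_zero, map_zero]
    obtain ⟨l, hl, rfl⟩ := exists_one_tmul_of_rTensor_eq_zero _ hw h0
    have h1 : EtMil.glueFst B' φ l = 0 := by
      clear hx h0
      induction hl using Submodule.smul_induction_on' with
      | smul j hj m _ => rw [map_smul, ← IsScalarTower.algebraMap_smul B j, RingHom.mem_ker.1 hj, zero_smul]
      | add a _ b _ ha hb => rw [map_add, ha, hb, add_zero]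
    have h2 : EtMil.glueSnd B' φ l = 0 := by simpa using hx
    have : l = 0 := Subtype.ext (Prod.ext h1 h2)
    rw [this, TensorProduct.tmul_zero]
  · rw [← LinearMap.range_eq_top, eq_top_iff, ← span_snd_eq_top (B' := B') (A := A) φ h.1, Submodule.span_le]
    rintro _ ⟨l, rfl⟩
    exact ⟨(1 : A') ⊗ₜ[B'] l, by simp⟩

/-- `B' → A'`-base change of `A' → A` is the kernel of `B' → B`. -/
theorem isPushout (h : EtMil.IsFibreSquare B' B A' A) : Algebra.IsPushout B' B A' A := by
  have hw := weak_of_isFibreSquare h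
  refine ⟨?_⟩
  let g := LinearMap.liftBaseChange B (IsScalarTower.toAlgHom B' A' A).toLinearMap
  refine (IsBaseChange.of_equiv (LinearEquiv.ofBijective g ⟨?_, ?_⟩) ?_)
  · rw [injective_iff_map_eq_zero]
    intro x hx
    obtain ⟨a, rfl⟩ := mk_surjective_of_surjective A' hw.surjFst x
    have ha : algebraMap A' A a = 0 := by simpa [g] using hx
    obtain ⟨j, hj, rfl⟩ := hw.lift a ha
    rw [TensorProduct.mk_apply, Algebra.algebraMap_eq_smul_one, ← TensorProduct.smul_tmul,
      ← Algebra.algebraMap_eq_smul_one, hj, TensorProduct.zero_tmul]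
  · intro a
    obtain ⟨a', rfl⟩ := h.1 a
    exact ⟨(1 : B) ⊗ₜ[B'] a', by simp [g]⟩
  · intro a; simp [g]

theorem glue_flat (h : EtMil.IsFibreSquare B' B A' A) [Module.Flat B N] [Module.Flat A' M'] :
    Module.Flat B' ↥(EtMil.glue B' φ) := by
  haveI : Module.Flat B (B ⊗[B'] ↥(EtMil.glue B' φ)) := Module.Flat.of_linearEquiv
    (LinearEquiv.ofBijective _ (glue_baseChange_fst_bijective φ (weak_of_isFibreSquare h)))
  haveI : Module.Flat A' (A' ⊗[B'] ↥(EtMil.glue B' φ)) := Module.Flat.of_linearEquiv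
    (LinearEquiv.ofBijective _ (glue_baseChange_snd_bijective φ h))
  exact flat_of_pair h _

omit φ in
theorem finitePresentation_of_pair (h : EtMil.IsFibreSquare B' B A' A)
    (L : Type u) [AddCommGroup L] [Module B' L]
    [Module.Flat B (B ⊗[B'] L)] [Module.FinitePresentation B (B ⊗[B'] L)]
    [Module.Flat A' (A' ⊗[B'] L)] [Module.FinitePresentation A' (A' ⊗[B'] L)] :
    Module.FinitePresentation B' L := by
  classical
  haveI := finite_of_pair L h
  obtain ⟨n, p, hp⟩ := Module.Finite.exists_fin' B' L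
  let K := LinearMap.ker p
  have key : ∀ (S : Type u) [CommRing S] [Algebra B' S] [Module.FinitePresentation S (S ⊗[B'] L)],
      ∃ s : Finset K, ∀ z : S ⊗[B'] (Fin n → B'), p.lTensor S z = 0 →
        z ∈ LinearMap.range ((Submodule.span B' ((fun k : K => (k : Fin n → B')) '' (s : Set K))).subtype.baseChange S) := by
    intro S _ _ hfp
    have hsurj : Function.Surjective (p.baseChange S) := LinearMap.lTensor_surjective S hp
    have hfg : (LinearMap.ker (p.baseChange S)).FG := Module.FinitePresentation.fg_ker _ hsurj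
    obtain ⟨m, b, hb⟩ := Submodule.fg_iff_exists_fin_generating_family.1 hfg
    have hbk : ∀ i, ∃ t : S ⊗[B'] K, K.subtype.lTensor S t = b i := fun i => by
      have : b i ∈ LinearMap.ker (p.baseChange S) := hb ▸ Submodule.subset_span ⟨i, rfl⟩
      exact (lTensor_exact S (LinearMap.exact_subtype_ker_map p) hp _).1 (LinearMap.mem_ker.1 this)
    choose t ht using hbk
    choose sf hsf using fun i => TensorProduct.exists_finset (t i)
    let s : Finset K := Finset.univ.biUnion fun i => (sf i).image Prod.snd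
    refine ⟨s, fun z hz => ?_⟩
    have hz' : z ∈ Submodule.span S (Set.range b) := hb ▸ (LinearMap.mem_ker.2 hz)
    refine (Submodule.span_le.2 ?_) hz'
    rintro _ ⟨i, rfl⟩
    rw [← ht i, hsf i, map_sum]
    refine Submodule.sum_mem _ fun q hq => ?_
    refine ⟨q.1 ⊗ₜ[B'] ⟨(q.2 : Fin n → B'), Submodule.subset_span ⟨q.2, ?_, rfl⟩⟩, rfl⟩
    simp only [s, Finset.coe_biUnion, Finset.coe_image]
    simp only [Set.mem_iUnion]
    exact ⟨i, Finset.mem_univ i, q, hq, rfl⟩
  obtain ⟨s, hs⟩ := key B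
  obtain ⟨t, ht⟩ := key A'
  let K₀ : Submodule B' (Fin n → B') :=
    Submodule.span B' ((fun k : K => (k : Fin n → B')) '' (↑(s ∪ t) : Set K))
  have hK₀ : K₀ ≤ K := Submodule.span_le.2 (by rintro _ ⟨k, -, rfl⟩; exact k.2)
  let q : ((Fin n → B') ⧸ K₀) →ₗ[B'] L := K₀.liftQ p hK₀
  have hq : Function.Surjective q := fun l => by
    obtain ⟨x, rfl⟩ := hp l
    exact ⟨Submodule.Quotient.mk x, rfl⟩
  have hbij : ∀ (S : Type u) [CommRing S] [Algebra B' S] (u : Finset K), u ⊆ s ∪ t →
      (∀ z : S ⊗[B'] (Fin n → B'), p.lTensor S z = 0 →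
        z ∈ LinearMap.range ((Submodule.span B' ((fun k : K => (k : Fin n → B')) '' (u : Set K))).subtype.baseChange S)) →
      Function.Bijective (q.baseChange S) := by
    intro S _ _ u hu hu'
    refine ⟨(injective_iff_map_eq_zero _).2 fun x hx => ?_, LinearMap.lTensor_surjective S hq⟩
    obtain ⟨z, rfl⟩ := LinearMap.lTensor_surjective S K₀.mkQ_surjective x
    have hz : p.lTensor S z = 0 := by
      rw [show p = q.comp K₀.mkQ from rfl, LinearMap.lTensor_comp, LinearMap.comp_apply]
      exact hx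
    obtain ⟨w, rfl⟩ := hu' z hz
    show K₀.mkQ.lTensor S (LinearMap.lTensor S (Submodule.subtype _) w) = 0
    rw [← LinearMap.comp_apply, ← LinearMap.lTensor_comp]
    have : K₀.mkQ.comp (Submodule.span B' ((fun k : K => (k : Fin n → B')) '' (u : Set K))).subtype = 0 :=
      LinearMap.ext fun x => (Submodule.Quotient.mk_eq_zero K₀).2
        (Submodule.span_mono (Set.image_mono (by exact_mod_cast hu)) x.2)
    rw [this, LinearMap.lTensor_zero, LinearMap.zero_apply]
  have hB := hbij B s Finset.subset_union_left hs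
  have hA := hbij A' t Finset.subset_union_right ht
  haveI : Module.Flat B (B ⊗[B'] ((Fin n → B') ⧸ K₀)) :=
    Module.Flat.of_linearEquiv (LinearEquiv.ofBijective _ hB)
  haveI : Module.Flat A' (A' ⊗[B'] ((Fin n → B') ⧸ K₀)) :=
    Module.Flat.of_linearEquiv (LinearEquiv.ofBijective _ hA)
  haveI := flat_of_pair h ((Fin n → B') ⧸ K₀)
  have hinj : Function.Injective q := (injective_iff_map_eq_zero _).2 fun x hx =>
    eq_zero_of_pair h _ (hB.1 (by rw [LinearMap.baseChange_tmul, hx, TensorProduct.tmul_zero, map_zero]))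
      (hA.1 (by rw [LinearMap.baseChange_tmul, hx, TensorProduct.tmul_zero, map_zero]))
  have hker : LinearMap.ker p = K₀ := le_antisymm (fun x hx =>
    (Submodule.Quotient.mk_eq_zero K₀).1 (hinj (by simpa [q] using hx))) hK₀
  refine Module.finitePresentation_of_surjective p hp ?_
  rw [hker]
  exact ⟨(s ∪ t).image (fun k : K => (k : Fin n → B')), by rw [Finset.coe_image]⟩

theorem glue_projective (h : EtMil.IsFibreSquare B' B A' A)
    [Module.Finite B N] [Module.Projective B N] [Module.Finite A' M'] [Module.Projective A' M'] :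
    Module.Finite B' ↥(EtMil.glue B' φ) ∧ Module.Projective B' ↥(EtMil.glue B' φ) := by
  have hw := weak_of_isFibreSquare h
  have hfin := glue_finite φ hw
  haveI := glue_flat φ h
  let e₁ := LinearEquiv.ofBijective _ (glue_baseChange_fst_bijective φ hw)
  let e₂ := LinearEquiv.ofBijective _ (glue_baseChange_snd_bijective φ h)
  haveI : Module.Flat B (B ⊗[B'] ↥(EtMil.glue B' φ)) := Module.Flat.of_linearEquiv e₁
  haveI : Module.Flat A' (A' ⊗[B'] ↥(EtMil.glue B' φ)) := Module.Flat.of_linearEquiv e₂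
  haveI := Module.finitePresentation_of_projective B N
  haveI := Module.finitePresentation_of_projective A' M'
  haveI : Module.FinitePresentation B (B ⊗[B'] ↥(EtMil.glue B' φ)) := Module.FinitePresentation.of_equiv e₁.symm
  haveI : Module.FinitePresentation A' (A' ⊗[B'] ↥(EtMil.glue B' φ)) := Module.FinitePresentation.of_equiv e₂.symm
  haveI := finitePresentation_of_pair h ↥(EtMil.glue B' φ)
  exact ⟨hfin, Module.Flat.projective_of_finitePresentation⟩

end Groth.Agent.MilnorH7
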